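import Mathlib
import Cfsg.Agent.Lib.Helper5.R2.Abelian

/-!
S2933 (author: helper5): an abelian 2-group with four elements of square one and an automorphism
fixing no involution is generated by `a` and `ξ a` for a suitable `a` (variant of `R2.abelian_case`).
-/

set_option autoImplicit false
set_option linter.unusedSectionVars false
set_option linter.unusedVariables false

namespace Cfsg.Agent.Lib.Helper5.K4

open Cfsg.Agent.Lib.Helper5.R2

section abelian

variable {B : Type*} [CommGroup B] [Finite B]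

theorem abelian_gen (hB : IsPGroup 2 B) (h4 : Nat.card {x : B // x * x = 1} = 4) (ξ : MulAut B)
    (hfpf : ∀ x : B, x * x = 1 → ξ x = x → x = 1) :
    ∃ a : B, ∀ x : B, ∃ i j : ℕ, x = a ^ i * (ξ a) ^ j := by
  classical
  haveI : Fact (Nat.Prime 2) := ⟨Nat.prime_two⟩
  obtain ⟨M, hM⟩ := IsPGroup.iff_card.1 hB
  have hex : ∃ n, ∀ x : B, x ^ (2 ^ n) = 1 := ⟨M, fun x => by rw [← hM]; exact pow_card_eq_one'⟩
  set n := Nat.find hex with hn
  have hnspec : ∀ x : B, x ^ (2 ^ n) = 1 := Nat.find_spec hex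
  have hn1 : 1 ≤ n := by
    by_contra h0
    have h0' : n = 0 := by omega
    have hall : ∀ x : B, x = 1 := by
      intro x
      have := hnspec x
      rwa [h0', pow_zero, pow_one] at this
    have : Nat.card {x : B // x * x = 1} = 1 := by
      rw [Nat.card_eq_one_iff_unique]
      refine ⟨⟨fun x y => Subtype.ext ((hall x.1).trans (hall y.1).symm)⟩, ⟨⟨1, by simp⟩⟩⟩
    omega
  obtain ⟨m, hm⟩ : ∃ m, n = m + 1 := ⟨n - 1, by omega⟩
  have hmin : ¬ ∀ x : B, x ^ (2 ^ m) = 1 := Nat.find_min hex (by omega)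
  push Not at hmin
  obtain ⟨a, ha⟩ := hmin
  rw [hm] at hnspec
  set b := ξ a with hb
  set z := a ^ (2 ^ m) with hz
  have hz2 : z * z = 1 := by rw [hz, ← pow_two, ← pow_mul, ← pow_succ]; exact hnspec a
  have hξz : ξ z = b ^ (2 ^ m) := by rw [hz, map_pow]
  have hzz' : b ^ (2 ^ m) ≠ z := by
    intro h
    apply ha
    apply hfpf z hz2
    rw [hξz, h]
  have hb1 : b ^ (2 ^ m) ≠ 1 := by
    intro h
    apply ha
    have : ξ z = 1 := by rw [hξz, h]
    have := (MulEquiv.map_eq_one_iff ξ).1 this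
    exact this
  have hoa : orderOf a = 2 ^ (m + 1) := orderOf_eq_prime_pow ha (hnspec a)
  have hob : orderOf b = 2 ^ (m + 1) := orderOf_eq_prime_pow hb1 (hnspec b)
  set N := 2 ^ (m + 1) with hN
  haveI : NeZero N := ⟨by rw [hN]; positivity⟩
  -- the key: a^I * b^J = 1 forces a^I = 1
  have key : ∀ I J : ℕ, a ^ I * b ^ J = 1 → a ^ I = 1 := by
    intro I J hIJ
    by_contra hy1
    set y := a ^ I with hy
    have hyb : y = (b ^ J)⁻¹ := eq_inv_of_mul_eq_one_left hIJ
    obtain ⟨k, hk⟩ : ∃ k, orderOf y = 2 ^ k := by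
      have : orderOf y ∣ 2 ^ (m + 1) := orderOf_dvd_of_pow_eq_one (hnspec y)
      obtain ⟨k, -, hk⟩ := (Nat.dvd_prime_pow Nat.prime_two).1 this
      exact ⟨k, hk⟩
    have hk0 : k ≠ 0 := by
      rintro rfl
      rw [pow_zero, orderOf_eq_one_iff] at hk
      exact hy1 hk
    obtain ⟨k', rfl⟩ : ∃ k', k = k' + 1 := ⟨k - 1, by omega⟩
    set w := y ^ (2 ^ k') with hw
    have hw2 : w * w = 1 := by
      rw [hw, ← pow_two, ← pow_mul, ← pow_succ, ← hk, pow_orderOf_eq_one]
    have hw1 : w ≠ 1 := by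
      rw [hw]
      apply pow_ne_one_of_lt_orderOf (by positivity)
      rw [hk]
      exact Nat.pow_lt_pow_right (by norm_num) (by omega)
    have e1 : w = a ^ (I * 2 ^ k') := by rw [hw, hy, pow_mul]
    have e2 : w = b ^ (J * 2 ^ k') := by
      have hwinv : w⁻¹ = w := inv_eq_of_mul_eq_one_left hw2
      rw [← hwinv, hw, hyb, inv_pow, inv_inv, pow_mul]
    have f1 := invol_of_pow hoa _ w e1 hw2 hw1
    have f2 := invol_of_pow hob _ w e2 hw2 hw1
    exact hzz' (f2.symm.trans f1)
  have hpowmod : ∀ c : B, c ^ N = 1 → ∀ k : ℕ, c ^ (k % N) = c ^ k := by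
    intro c hc k
    conv_rhs => rw [← Nat.div_add_mod k N, pow_add, pow_mul, hc, one_pow, one_mul]
  -- the homomorphism
  let φ : Multiplicative (ZMod N × ZMod N) →* B :=
    { toFun := fun p => a ^ (Multiplicative.toAdd p).1.val * b ^ (Multiplicative.toAdd p).2.val
      map_one' := by simp
      map_mul' := by
        intro p q
        simp only [toAdd_mul, Prod.fst_add, Prod.snd_add, ZMod.val_add]
        rw [hpowmod a (hnspec a), hpowmod b (hnspec b), pow_add, pow_add]
        exact mul_mul_mul_comm _ _ _ _ }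
  have hφ : ∀ p, φ p = a ^ (Multiplicative.toAdd p).1.val * b ^ (Multiplicative.toAdd p).2.val :=
    fun p => rfl
  have hinj : Function.Injective φ := by
    rw [injective_iff_map_eq_one]
    intro p hp
    rw [hφ] at hp
    have h1 := key _ _ hp
    have h2 : b ^ (Multiplicative.toAdd p).2.val = 1 := by rwa [h1, one_mul] at hp
    have d1 := orderOf_dvd_of_pow_eq_one h1
    rw [hoa] at d1
    have d2 := orderOf_dvd_of_pow_eq_one h2
    rw [hob] at d2
    have v1 : (Multiplicative.toAdd p).1.val = 0 :=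
      Nat.eq_zero_of_dvd_of_lt d1 (ZMod.val_lt _)
    have v2 : (Multiplicative.toAdd p).2.val = 0 :=
      Nat.eq_zero_of_dvd_of_lt d2 (ZMod.val_lt _)
    have w1 : (Multiplicative.toAdd p).1 = 0 := (ZMod.val_eq_zero _).1 v1
    have w2 : (Multiplicative.toAdd p).2 = 0 := (ZMod.val_eq_zero _).1 v2
    have : Multiplicative.toAdd p = 0 := Prod.ext w1 w2
    exact this
  have hcardB : Nat.card B ≤ 4 ^ (m + 1) := by
    have := card_le_of_exponent h4 (m + 1) ⊤ (fun x _ => hnspec x)
    rwa [Subgroup.card_top] at this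
  have hcardZ : Nat.card (Multiplicative (ZMod N × ZMod N)) = 4 ^ (m + 1) := by
    show Nat.card (ZMod N × ZMod N) = _
    rw [Nat.card_prod, Nat.card_zmod, hN, ← mul_pow]
    norm_num
  have hle : Nat.card (Multiplicative (ZMod N × ZMod N)) ≤ Nat.card B :=
    Nat.card_le_card_of_injective φ hinj
  have hbij : Function.Bijective φ := by
    rw [Nat.bijective_iff_injective_and_card]
    exact ⟨hinj, by omega⟩
  refine ⟨a, fun x => ?_⟩
  obtain ⟨p, hp⟩ := hbij.2 x
  exact ⟨(Multiplicative.toAdd p).1.val, (Multiplicative.toAdd p).2.val, by rw [← hp, hφ]⟩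

end abelian

end Cfsg.Agent.Lib.Helper5.K4
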