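import Mathlib
import Cfsg.Agent.Lib.Helper7.T64B
import Cfsg.Agent.Lib.Helper5.R2.H64A
import Cfsg.Agent.H1.FpfThreeClass

/-!
S2933 (author: helper5): the abstract hypotheses `KHyp T V α β` (a finite 2-group `T`, a central
four-group `V`, commuting automorphisms `α` (involutory, with fixed points exactly `V`) and `β` (of
order 3, fixed-point-free on `V`)); `β` is fixed-point-free on `T`.
-/

set_option autoImplicit false

namespace Cfsg.Agent.Lib.Helper5.K4

open Cfsg.Agent.Lib.Helper7.T64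
open scoped commutatorElement

/-- the abstract hypotheses of S2933 -/
structure KHyp (T : Type*) [Group T] (V : Subgroup T) (α β : MulAut T) : Prop where
  fin : Finite T
  pgroup : IsPGroup 2 T
  V_le : V ≤ Subgroup.center T
  V_card : Nat.card V = 4
  V_sq : ∀ v ∈ V, v * v = 1
  α_sq : ∀ x, α (α x) = x
  β_cube : ∀ x, β (β (β x)) = x
  comm : ∀ x, α (β x) = β (α x)
  β_V : ∀ v ∈ V, β v ∈ V
  β_fpf_V : ∀ v ∈ V, β v = v → v = 1
  fix_iff : ∀ x, α x = x ↔ x ∈ V

section general

variable {T : Type*} [Group T]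

/-- an involutory automorphism of a 2-group fixes a non-identity element of every non-trivial
invariant subgroup -/
theorem exists_fixed_ne_one [Finite T] (hT : IsPGroup 2 T) (σ : MulAut T) (hσ : ∀ x, σ (σ x) = x)
    (H : Subgroup T) (hH : ∀ x ∈ H, σ x ∈ H) (hne : H ≠ ⊥) : ∃ x ∈ H, x ≠ 1 ∧ σ x = x := by
  classical
  haveI : Fintype T := Fintype.ofFinite T
  by_contra hcon
  push Not at hcon
  have hp : ∀ x, (fun x => x ∈ H) (MulAut.toPerm T σ x) ↔ (fun x => x ∈ H) x := by
    intro x
    show σ x ∈ H ↔ x ∈ H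
    constructor
    · intro hx
      rw [← hσ x]
      exact hH _ hx
    · exact hH x
  let τ : Equiv.Perm {x : T // x ∈ H} := (MulAut.toPerm T σ).subtypePerm hp
  have hτ : τ ^ 2 ^ 1 = 1 := by
    ext y
    simp only [pow_one, Equiv.Perm.coe_one, id_eq]
    show σ (σ y.1) = y.1
    exact hσ y.1
  haveI : Fact (Nat.Prime 2) := ⟨Nat.prime_two⟩
  have hmod := Equiv.Perm.card_compl_support_modEq hτ
  have hsupp : τ.supportᶜ = {⟨1, H.one_mem⟩} := by
    ext y
    simp only [Finset.mem_compl, Equiv.Perm.mem_support, ne_eq, not_not, Finset.mem_singleton]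
    constructor
    · intro e
      have e' : σ y.1 = y.1 := congrArg Subtype.val e
      by_contra hy
      exact hcon y.1 y.2 (fun h1 => hy (Subtype.ext h1)) e'
    · rintro rfl
      exact Subtype.ext (map_one σ)
  rw [hsupp, Finset.card_singleton] at hmod
  have hcard : Fintype.card {x : T // x ∈ H} = Nat.card H := (Nat.card_eq_fintype_card).symm
  obtain ⟨k, hk⟩ := IsPGroup.iff_card.1 (hT.to_subgroup H)
  rw [hcard, hk] at hmod
  rcases Nat.eq_zero_or_pos k with rfl | hkpos
  · rw [pow_zero] at hk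
    exact hne (Subgroup.card_eq_one.1 hk)
  · obtain ⟨k', rfl⟩ : ∃ k', k = k' + 1 := ⟨k - 1, by omega⟩
    have : (2 ^ (k' + 1)) % 2 = 0 := by rw [pow_succ]; omega
    have h1 : 1 % 2 = (2 ^ (k' + 1)) % 2 := hmod
    omega

/-- a subgroup of order 4 on which an automorphism acts without fixed points has exponent 2 -/
theorem sq_eq_one_of_card_four (F : Subgroup T) (hF : Nat.card F = 4) (ξ : MulAut T)
    (hξF : ∀ x ∈ F, ξ x ∈ F) (hfpf : ∀ x ∈ F, ξ x = x → x = 1) : ∀ z ∈ F, z * z = 1 := by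
  intro z hz
  by_contra hne
  have hw : z * z ∈ F := F.mul_mem hz hz
  apply hne
  apply hfpf _ hw
  have hz1 : z ≠ 1 := by rintro rfl; exact hne (one_mul 1)
  have h4 : z * z * (z * z) = 1 := by
    have h0 : (⟨z, hz⟩ : F) ^ Nat.card F = 1 := pow_card_eq_one'
    rw [hF] at h0
    have h1 := congrArg Subtype.val h0
    simp only [Subgroup.coe_pow, Subgroup.coe_one] at h1
    rw [← h1]
    simp only [pow_succ, pow_zero, one_mul, mul_assoc]
  have hz3 : z * z * z ≠ 1 := by
    intro e
    apply hz1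
    have : z * z * (z * z) = z := by
      calc z * z * (z * z) = z * z * z * z := by simp only [mul_assoc]
        _ = z := by rw [e, one_mul]
    rw [← this, h4]
  have hz3c : z * z * z ∈ F := F.mul_mem hw hz
  have hcases := R2.eq_of_card_four' F hF 1 z (z * z) (z * z * z)
    F.one_mem hz hw hz3c (Ne.symm hz1) (Ne.symm hne) (Ne.symm hz3)
    (by intro e; apply hz1; have := congrArg (fun t => z⁻¹ * t) e; simpa using this.symm)
    (by intro e; apply hne; have := congrArg (fun t => z⁻¹ * t) e; simpa [mul_assoc] using this.symm)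
    (by intro e; apply hz1; have := congrArg (fun t => (z * z)⁻¹ * t) e
        simpa [mul_assoc] using this.symm)
    (ξ z) (hξF z hz)
  rcases hcases with e | e | e | e
  · exact absurd ((map_eq_one_iff ξ ξ.injective).1 e) hz1
  · exact absurd (hfpf z hz e) hz1
  · exfalso
    apply hne
    apply (map_eq_one_iff ξ ξ.injective).1
    rw [map_mul, e, h4]
  · rw [map_mul, e]
    calc z * z * z * (z * z * z) = z * z * (z * z * (z * z)) := by simp only [mul_assoc]
      _ = z * z := by rw [h4, mul_one]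

end general

namespace KHyp

variable {T : Type*} [Group T] {V : Subgroup T} {α β : MulAut T} (h : KHyp T V α β)
include h

theorem α_V {v : T} (hv : v ∈ V) : α v = v := (h.fix_iff v).2 hv

/-- Step 1: `β` is fixed-point-free -/
theorem fpf : Fpf β := by
  haveI := h.fin
  refine ⟨h.β_cube, ?_⟩
  intro y hy
  by_contra hy1
  let U : Subgroup T := MonoidHom.eqLocus (β.toMonoidHom) (MonoidHom.id T)
  have hUmem : ∀ x, x ∈ U ↔ β x = x := fun x => Iff.rfl
  have hUα : ∀ x ∈ U, α x ∈ U := by
    intro x hx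
    rw [hUmem] at hx ⊢
    rw [← h.comm, hx]
  have hUne : U ≠ ⊥ := by
    intro e
    have : y ∈ U := (hUmem y).2 hy
    rw [e, Subgroup.mem_bot] at this
    exact hy1 this
  obtain ⟨x, hxU, hx1, hxα⟩ := exists_fixed_ne_one h.pgroup α h.α_sq U hUα hUne
  have hxV : x ∈ V := (h.fix_iff x).1 hxα
  exact hx1 (h.β_fpf_V x hxV ((hUmem x).1 hxU))

theorem β_pow : β ^ 3 = 1 := by
  ext x
  simp [pow_succ, MulAut.mul_apply, h.β_cube]

/-- commutators are central -/
theorem comm_mem_center (x y : T) : ⁅x, y⁆ ∈ Subgroup.center T := by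
  haveI := h.fin
  haveI : Fact (Nat.Prime 2) := ⟨Nat.prime_two⟩
  have h2 := (Cfsg.Agent.H1.FpfThree.nilpotencyClass_le_two 2 (by decide) h.pgroup β h.β_pow
    h.fpf.fp).1
  rw [Subgroup.mem_center_iff]
  intro z
  have := h2 x y z
  rw [commutatorElement_def] at this
  have e : ⁅x, y⁆ * z = z * ⁅x, y⁆ := by
    have h3 : ⁅x, y⁆ * z * ⁅x, y⁆⁻¹ * z⁻¹ = 1 := this
    calc ⁅x, y⁆ * z = (⁅x, y⁆ * z * ⁅x, y⁆⁻¹ * z⁻¹) * (z * ⁅x, y⁆) := by group
      _ = z * ⁅x, y⁆ := by rw [h3, one_mul]
  exact e.symm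

end KHyp

end Cfsg.Agent.Lib.Helper5.K4
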