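import Mathlib
import Cfsg.Agent.Lib.Helper5.K4.Defs

/-!
S2933, Step 2 (author: helper5): an abelian group with `KHyp` has exactly four elements of square
one, or is elementary abelian of order 16.
-/

set_option autoImplicit false

namespace Cfsg.Agent.Lib.Helper5.K4

open Cfsg.Agent.Lib.Helper7.T64

theorem card_eq_ker_mul_range {G H : Type*} [Group G] [Group H] [Finite G] (f : G →* H) :
    Nat.card G = Nat.card f.ker * Nat.card f.range := by
  rw [Subgroup.card_eq_card_quotient_mul_card_subgroup f.ker,
    Nat.card_congr (QuotientGroup.quotientKerEquivRange f).toEquiv, mul_comm]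

namespace KHyp

variable {T : Type*} [Group T] {V : Subgroup T} {α β : MulAut T}

theorem abelian_dichotomy (h : KHyp T V α β) (hcomm : ∀ a b : T, a * b = b * a) :
    Nat.card {x : T // x * x = 1} = 4 ∨ (Nat.card T = 16 ∧ ∀ x : T, x * x = 1) := by
  classical
  haveI := h.fin
  letI : CommGroup T := { (inferInstance : Group T) with mul_comm := hcomm }
  -- W = Ω₁
  let W : Subgroup T := (powMonoidHom 2 : T →* T).ker
  have hWmem : ∀ x, x ∈ W ↔ x * x = 1 := by
    intro x
    show (powMonoidHom 2 : T →* T) x = 1 ↔ _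
    rw [powMonoidHom_apply, pow_two]
  let μ : T →* T :=
    { toFun := fun x => x * α x
      map_one' := by simp
      map_mul' := fun x y => by
        rw [map_mul]
        exact mul_mul_mul_comm x y (α x) (α y) }
  have hμ : ∀ x, μ x = x * α x := fun x => rfl
  have hμV : ∀ x, μ x ∈ V := by
    intro x
    rw [← h.fix_iff, hμ, map_mul, h.α_sq, mul_comm]
  have hVW : V ≤ W := fun v hv => (hWmem v).2 (h.V_sq v hv)
  have hμ_of_V : ∀ v ∈ V, μ v = 1 := by
    intro v hv
    rw [hμ, h.α_V hv, h.V_sq v hv]
  have hWK : ∀ x, x ∈ W → μ x = 1 → x ∈ V := by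
    intro x hxW hxK
    rw [← h.fix_iff]
    rw [hμ] at hxK
    have h1 : α x = x⁻¹ := eq_inv_of_mul_eq_one_right hxK
    rw [h1]
    exact inv_eq_of_mul_eq_one_left ((hWmem x).1 hxW)
  -- counting
  let ν : W →* T := μ.comp W.subtype
  have hker : ν.ker = V.subgroupOf W := by
    ext x
    rw [MonoidHom.mem_ker, Subgroup.mem_subgroupOf]
    constructor
    · intro hx
      exact hWK x.1 x.2 hx
    · intro hx
      exact hμ_of_V x.1 hx
  have hcardker : Nat.card ν.ker = 4 := by
    rw [hker, Nat.card_congr (Subgroup.subgroupOfEquivOfLe hVW).toEquiv, h.V_card]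
  have hrange : ν.range ≤ V := by
    rintro _ ⟨x, rfl⟩
    exact hμV x.1
  have hcardW : Nat.card W = 4 * Nat.card ν.range := by
    rw [card_eq_ker_mul_range ν, hcardker]
  have hdvd : Nat.card ν.range ∣ 4 := by
    rw [← h.V_card]
    exact Subgroup.card_dvd_of_le hrange
  have hWβ : ∀ n ∈ W, β n ∈ W := by
    intro n hn
    rw [hWmem] at hn ⊢
    rw [← map_mul, hn, map_one]
  have hmod := h.fpf.card_modEq W hWβ
  have hWcard' : Nat.card {x : T // x * x = 1} = Nat.card W :=
    Nat.card_congr (Equiv.subtypeEquivRight (fun x => (hWmem x).symm))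
  have hr : Nat.card ν.range = 1 ∨ Nat.card ν.range = 4 := by
    have hle : Nat.card ν.range ≤ 4 := Nat.le_of_dvd (by norm_num) hdvd
    have hmod' : Nat.card W % 3 = 1 % 3 := hmod
    rw [hcardW] at hmod'
    have hpos : 0 < Nat.card ν.range := Nat.pos_of_dvd_of_pos hdvd (by norm_num)
    interval_cases (Nat.card ν.range) <;> simp_all
  rcases hr with hr | hr
  · left
    rw [hWcard', hcardW, hr]
  · right
    have hrV : ν.range = V := Subgroup.eq_of_le_of_card_ge hrange (by rw [hr, h.V_card])
    have hall : ∀ x : T, x * x = 1 := by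
      by_contra hcon
      push Not at hcon
      obtain ⟨x, hx⟩ := hcon
      -- x = k * w
      have hxV : μ x ∈ ν.range := by rw [hrV]; exact hμV x
      obtain ⟨w, hw⟩ := hxV
      have hw' : μ w.1 = μ x := hw
      have hkK : μ (x * w.1⁻¹) = 1 := by
        rw [map_mul, map_inv, hw', mul_inv_cancel]
      have hk2 : (x * w.1⁻¹) * (x * w.1⁻¹) ≠ 1 := by
        intro e
        apply hx
        have hw2 : w.1 * w.1 = 1 := (hWmem w.1).1 w.2
        have hwinv : w.1⁻¹ = w.1 := inv_eq_of_mul_eq_one_left hw2
        rw [hwinv] at e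
        calc x * x = (x * w.1) * (x * w.1) * (w.1 * w.1)⁻¹ := by
              rw [mul_mul_mul_comm x w.1 x w.1, mul_inv_cancel_right]
          _ = 1 := by rw [e, hw2, inv_one, mul_one]
      set k := x * w.1⁻¹ with hk
      -- a power of k of order 4
      have hex : ∃ n, k ^ (2 ^ n) = 1 := h.pgroup k
      set n := Nat.find hex with hn
      have hnspec : k ^ (2 ^ n) = 1 := Nat.find_spec hex
      have hn2 : 2 ≤ n := by
        by_contra hlt
        have hn1 : n = 0 ∨ n = 1 := by omega
        rcases hn1 with e | e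
        · rw [e, pow_zero, pow_one] at hnspec
          rw [hnspec, one_mul] at hk2
          exact hk2 rfl
        · rw [e, pow_one, pow_two] at hnspec
          exact hk2 hnspec
      obtain ⟨m, hm⟩ : ∃ m, n = m + 2 := ⟨n - 2, by omega⟩
      have hmin : ¬ k ^ (2 ^ (m + 1)) = 1 := Nat.find_min hex (by omega)
      set k' := k ^ (2 ^ m) with hk'
      have hk'K : μ k' = 1 := by rw [hk', map_pow, hkK, one_pow]
      have hk'4 : k' ^ 4 = 1 := by
        rw [hk', ← pow_mul]
        have : 2 ^ m * 4 = 2 ^ n := by rw [hm, pow_add]; norm_num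
        rw [this, hnspec]
      have hk'2 : k' ^ 2 ≠ 1 := by
        rw [hk', ← pow_mul, ← pow_succ]
        exact hmin
      have hαk' : α k' = k'⁻¹ := by
        rw [hμ] at hk'K
        exact eq_inv_of_mul_eq_one_right hk'K
      set v := k' ^ 2 with hv
      have hvW : v ∈ W := by
        rw [hWmem, hv, ← pow_two, ← pow_mul]
        exact hk'4
      have hvK : μ v = 1 := by rw [hv, map_pow, hk'K, one_pow]
      have hvV : v ∈ V := hWK v hvW hvK
      have hvr : v ∈ ν.range := by rw [hrV]; exact hvV
      obtain ⟨u, hu⟩ := hvr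
      have hu' : u.1 * α u.1 = v := hu
      have hu2 : u.1 * u.1 = 1 := (hWmem u.1).1 u.2
      -- u * k'⁻¹ is fixed by α
      have hαu : α u.1 = u.1 * v := by
        have : u.1 * α u.1 = u.1 * (u.1 * v) := by rw [hu', ← mul_assoc, hu2, one_mul]
        exact mul_left_cancel this
      have hfix : α (u.1 * k'⁻¹) = u.1 * k'⁻¹ := by
        rw [map_mul, map_inv, hαk', inv_inv, hαu, hv, mul_assoc]
        congr 1
        have : k' ^ 2 * k' = k' ^ 4 * k'⁻¹ := by group
        rw [this, hk'4, one_mul]
      have huk : u.1 * k'⁻¹ ∈ V := (h.fix_iff _).1 hfix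
      have huK : μ u.1 = 1 := by
        have e : u.1 = (u.1 * k'⁻¹) * k' := by group
        rw [e, map_mul, hμ_of_V _ huk, hk'K, one_mul]
      have huV : u.1 ∈ V := hWK u.1 u.2 huK
      have : v = 1 := by rw [← hu']; exact hμ_of_V u.1 huV
      exact hk'2 this
    refine ⟨?_, hall⟩
    have hWtop : W = ⊤ := by
      ext x
      simp only [Subgroup.mem_top, iff_true]
      exact (hWmem x).2 (hall x)
    have : Nat.card W = 16 := by rw [hcardW, hr]
    rw [hWtop, Subgroup.card_top] at this
    exact this

end KHyp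

end Cfsg.Agent.Lib.Helper5.K4
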