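import Mathlib
import Cfsg.Agent.Lib.Helper5.K4.Abel
import Cfsg.Agent.Lib.Helper5.K4.AbGen

/-!
S2933 (author: helper5): quotients by central invariant subgroups.  `comm_of_quot`: if `T / N` is
abelian with four elements of square one then `T` is abelian.  `KHyp.quot`: `KHyp` passes to an
abelian quotient `T / N`, and `α` inverts `N`.
-/

set_option autoImplicit false

namespace Cfsg.Agent.Lib.Helper5.K4

open Cfsg.Agent.Lib.Helper7.T64

section Q

variable {T : Type*} [Group T]

theorem comm_of_quot [Finite T] {β : MulAut T} (hfpf : Fpf β) (hp : IsPGroup 2 T)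
    (N : Subgroup T) [N.Normal] (hNc : N ≤ Subgroup.center T) (hNβ : N.map (β : T →* T) = N)
    (hab : ∀ x y : T ⧸ N, x * y = y * x) (h4 : Nat.card {x : T ⧸ N // x * x = 1} = 4) :
    ∀ x y : T, x * y = y * x := by
  letI : CommGroup (T ⧸ N) := { (inferInstance : Group (T ⧸ N)) with mul_comm := hab }
  have hq := Fpf.quot_fpf hfpf N hNβ
  obtain ⟨ā, hā⟩ := abelian_gen (B := T ⧸ N) (hp.to_quotient N) h4 (Fpf.quot β N hNβ)
    (fun x _ hx => hq.fp x hx)
  obtain ⟨a, rfl⟩ := QuotientGroup.mk_surjective ā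
  have hrep : ∀ x : T, ∃ i j : ℕ, ∃ n ∈ N, x = a ^ i * (β a) ^ j * n := by
    intro x
    obtain ⟨i, j, hij⟩ := hā (QuotientGroup.mk x)
    rw [Fpf.quot_mk] at hij
    have h1 : (QuotientGroup.mk x : T ⧸ N) = QuotientGroup.mk (a ^ i * (β a) ^ j) := by
      rw [hij]
      rfl
    have hmem : (a ^ i * (β a) ^ j)⁻¹ * x ∈ N := QuotientGroup.eq.1 h1.symm
    exact ⟨i, j, _, hmem, by group⟩
  intro x y
  obtain ⟨i, j, n, hn, rfl⟩ := hrep x
  obtain ⟨k, l, n', hn', rfl⟩ := hrep y
  have hab' : Commute a (β a) := hfpf.comm_rho a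
  have hn_c : ∀ g, Commute n g := fun g => (Subgroup.mem_center_iff.1 (hNc hn) g).symm
  have hn'_c : ∀ g, Commute g n' := fun g => Subgroup.mem_center_iff.1 (hNc hn') g
  have C1 : Commute (a ^ i) (a ^ k * (β a) ^ l * n') :=
    (((Commute.refl a).pow_pow i k).mul_right (hab'.pow_pow i l)).mul_right (hn'_c _)
  have C2 : Commute ((β a) ^ j) (a ^ k * (β a) ^ l * n') :=
    ((hab'.symm.pow_pow j k).mul_right ((Commute.refl (β a)).pow_pow j l)).mul_right (hn'_c _)
  exact ((C1.mul_left C2).mul_left (hn_c _)).eq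

end Q

namespace KHyp

variable {T : Type*} [Group T] {V : Subgroup T} {α β : MulAut T}

theorem quot (h : KHyp T V α β) (N : Subgroup T) [N.Normal] (hNc : N ≤ Subgroup.center T)
    (hNα : N.map (α : T →* T) = N) (hNβ : N.map (β : T →* T) = N)
    (hab : ∀ x y : T ⧸ N, x * y = y * x) (hne : N ≠ ⊤) :
    ∃ F : Subgroup (T ⧸ N), KHyp (T ⧸ N) F (Fpf.quot α N hNα) (Fpf.quot β N hNβ) ∧
      ∀ n ∈ N, α n = n⁻¹ := by
  haveI := h.fin
  have hamk : ∀ x : T, Fpf.quot α N hNα (QuotientGroup.mk x) = QuotientGroup.mk (α x) :=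
    Fpf.quot_mk α N hNα
  have hbmk : ∀ x : T, Fpf.quot β N hNβ (QuotientGroup.mk x) = QuotientGroup.mk (β x) :=
    Fpf.quot_mk β N hNβ
  have ha2 : ∀ x : T ⧸ N, Fpf.quot α N hNα (Fpf.quot α N hNα x) = x := by
    intro x
    induction x using QuotientGroup.induction_on with
    | H x => rw [hamk, hamk, h.α_sq]
  have hfpf' : Fpf (Fpf.quot β N hNβ) := Fpf.quot_fpf h.fpf N hNβ
  have hcomm' : ∀ x : T ⧸ N, Fpf.quot α N hNα (Fpf.quot β N hNβ x) =
      Fpf.quot β N hNβ (Fpf.quot α N hNα x) := by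
    intro x
    induction x using QuotientGroup.induction_on with
    | H x => rw [hbmk, hamk, hamk, hbmk, h.comm]
  let F : Subgroup (T ⧸ N) :=
    MonoidHom.eqLocus (Fpf.quot α N hNα).toMonoidHom (MonoidHom.id (T ⧸ N))
  have hFmem : ∀ x, x ∈ F ↔ Fpf.quot α N hNα x = x := fun x => Iff.rfl
  let L : Subgroup T := F.comap (QuotientGroup.mk' N)
  have hLmem : ∀ x : T, x ∈ L ↔ x⁻¹ * α x ∈ N := by
    intro x
    show Fpf.quot α N hNα (QuotientGroup.mk x) = QuotientGroup.mk x ↔ _
    rw [hamk, eq_comm, QuotientGroup.eq]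
  let θ : L →* T :=
    { toFun := fun x => x.1⁻¹ * α x.1
      map_one' := by simp
      map_mul' := fun x y => by
        have hc := Subgroup.mem_center_iff.1 (hNc ((hLmem x.1).1 x.2)) y.1⁻¹
        show (x.1 * y.1)⁻¹ * α (x.1 * y.1) = x.1⁻¹ * α x.1 * (y.1⁻¹ * α y.1)
        calc (x.1 * y.1)⁻¹ * α (x.1 * y.1) = y.1⁻¹ * (x.1⁻¹ * α x.1) * α y.1 := by
              rw [map_mul]; group
          _ = (x.1⁻¹ * α x.1) * y.1⁻¹ * α y.1 := by rw [hc]
          _ = x.1⁻¹ * α x.1 * (y.1⁻¹ * α y.1) := by group }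
  have hθ : ∀ x : L, θ x = x.1⁻¹ * α x.1 := fun x => rfl
  have hVL : V ≤ L := by
    intro v hv
    rw [hLmem, h.α_V hv, inv_mul_cancel]
    exact N.one_mem
  have hker : θ.ker = V.subgroupOf L := by
    ext x
    rw [MonoidHom.mem_ker, Subgroup.mem_subgroupOf, hθ, ← h.fix_iff]
    constructor
    · intro e
      have := congrArg (fun t => x.1 * t) e
      simpa using this
    · intro e
      rw [e, inv_mul_cancel]
  have hcardker : Nat.card θ.ker = 4 := by
    rw [hker, Nat.card_congr (Subgroup.subgroupOfEquivOfLe hVL).toEquiv, h.V_card]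
  have hrange : θ.range ≤ N := by
    rintro _ ⟨x, rfl⟩
    exact (hLmem x.1).1 x.2
  have hcardL : Nat.card L = 4 * Nat.card θ.range := by
    rw [card_eq_ker_mul_range θ, hcardker]
  have hcardL' : Nat.card L = Nat.card F * Nat.card N := by
    have hidx : L.index = F.index :=
      Subgroup.index_comap_of_surjective F (QuotientGroup.mk'_surjective N)
    have e1 : Nat.card L * L.index = Nat.card T := Subgroup.card_mul_index L
    have e2 : Nat.card F * F.index = Nat.card (T ⧸ N) := Subgroup.card_mul_index F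
    have e3 : Nat.card T = Nat.card (T ⧸ N) * Nat.card N :=
      Subgroup.card_eq_card_quotient_mul_card_subgroup N
    have hpos : 0 < F.index := Nat.pos_of_ne_zero Subgroup.index_ne_zero_of_finite
    rw [hidx] at e1
    have : Nat.card L * F.index = Nat.card F * Nat.card N * F.index := by
      rw [e1, e3, ← e2]; ring
    exact Nat.eq_of_mul_eq_mul_right hpos this
  have hNpos : 0 < Nat.card N := Nat.card_pos
  have hrle : Nat.card θ.range ≤ Nat.card N := Subgroup.card_le_of_le hrange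
  have hFle : Nat.card F ≤ 4 := by
    have : Nat.card F * Nat.card N ≤ 4 * Nat.card N := by
      rw [← hcardL', hcardL]
      exact Nat.mul_le_mul_left _ hrle
    exact Nat.le_of_mul_le_mul_right this hNpos
  have hFβ : ∀ n ∈ F, Fpf.quot β N hNβ n ∈ F := by
    intro n hn
    rw [hFmem] at hn ⊢
    rw [hcomm', hn]
  have hFmod := hfpf'.card_modEq F hFβ
  have hFne : F ≠ ⊥ := by
    have htop : (⊤ : Subgroup (T ⧸ N)) ≠ ⊥ := by
      intro e
      apply hne
      rw [eq_top_iff]
      intro g _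
      have : (QuotientGroup.mk g : T ⧸ N) ∈ (⊤ : Subgroup (T ⧸ N)) := Subgroup.mem_top _
      rw [e, Subgroup.mem_bot] at this
      exact (QuotientGroup.eq_one_iff g).1 this
    obtain ⟨x, -, hx1, hxfix⟩ := exists_fixed_ne_one (h.pgroup.to_quotient N)
      (Fpf.quot α N hNα) ha2 ⊤ (fun _ _ => Subgroup.mem_top _) htop
    intro e
    have : x ∈ F := (hFmem x).2 hxfix
    rw [e, Subgroup.mem_bot] at this
    exact hx1 this
  have hF4 : Nat.card F = 4 := by
    have h1 : Nat.card F ≠ 1 := fun e => hFne (Subgroup.card_eq_one.1 e)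
    have hpos : 0 < Nat.card F := Nat.card_pos
    have hmod' : Nat.card F % 3 = 1 % 3 := hFmod
    interval_cases (Nat.card F) <;> simp_all
  refine ⟨F, ?_, ?_⟩
  · refine ⟨inferInstance, h.pgroup.to_quotient N, ?_, hF4, ?_, ha2, hfpf'.h3, hcomm', hFβ, ?_,
      fun x => (hFmem x).symm⟩
    · intro x _
      rw [Subgroup.mem_center_iff]
      intro g
      exact hab g x
    · exact sq_eq_one_of_card_four F hF4 (Fpf.quot β N hNβ) hFβ (fun x _ hx => hfpf'.fp x hx)
    · intro v _ hv
      exact hfpf'.fp v hv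
  · have hrN : Nat.card θ.range = Nat.card N := by
      have : Nat.card F * Nat.card N = 4 * Nat.card θ.range := by rw [← hcardL', hcardL]
      rw [hF4] at this
      omega
    have hreq : θ.range = N := Subgroup.eq_of_le_of_card_ge hrange (by rw [hrN])
    intro n hn
    rw [← hreq] at hn
    obtain ⟨x, rfl⟩ := hn
    rw [hθ, map_mul, map_inv, h.α_sq]
    group

end KHyp

end Cfsg.Agent.Lib.Helper5.K4
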