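import Mathlib
import Cfsg.Agent.Lib.Helper5.K4.Quot
import Cfsg.Agent.Lib.Helper7.T64C

/-!
S2933, Step 3 (author: helper5): a non-abelian group with `KHyp` has order 64.
-/

set_option autoImplicit false

namespace Cfsg.Agent.Lib.Helper5.K4

open Cfsg.Agent.Lib.Helper7.T64
open scoped commutatorElement

namespace KHyp

variable {T : Type*} [Group T] {V : Subgroup T} {α β : MulAut T}

theorem V_normal (h : KHyp T V α β) : V.Normal := by
  constructor
  intro n hn g
  have := Subgroup.mem_center_iff.1 (h.V_le hn) g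
  rw [this, mul_inv_cancel_right]
  exact hn

theorem map_α_V (h : KHyp T V α β) : V.map (α : T →* T) = V := by
  ext y
  constructor
  · rintro ⟨v, hv, rfl⟩
    show α v ∈ V
    rw [h.α_V hv]
    exact hv
  · intro hy
    exact ⟨y, hy, h.α_V hy⟩

theorem map_β_V (h : KHyp T V α β) : V.map (β : T →* T) = V := by
  ext y
  constructor
  · rintro ⟨v, hv, rfl⟩
    exact h.β_V v hv
  · intro hy
    exact ⟨β (β y), h.β_V _ (h.β_V _ hy), h.β_cube y⟩

theorem quot_comm_of_comm_mem (N : Subgroup T) [N.Normal] (hN : ∀ x y : T, ⁅x, y⁆ ∈ N) :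
    ∀ x y : T ⧸ N, x * y = y * x := by
  intro x y
  induction x using QuotientGroup.induction_on with
  | H x =>
    induction y using QuotientGroup.induction_on with
    | H y =>
      rw [← QuotientGroup.mk_mul, ← QuotientGroup.mk_mul, QuotientGroup.eq]
      have : (x * y)⁻¹ * (y * x) = ⁅y⁻¹, x⁻¹⁆ := by
        rw [commutatorElement_def]; group
      rw [this]
      exact hN _ _

theorem card_of_nonabelian (h : KHyp T V α β) (hna : ¬ ∀ a b : T, a * b = b * a) :
    Nat.card T = 64 := by
  haveI := h.fin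
  have hZα : (Subgroup.center T).map (α : T →* T) = Subgroup.center T := map_center_eq α
  have hZβ : (Subgroup.center T).map (β : T →* T) = Subgroup.center T := map_center_eq β
  have hab : ∀ x y : T ⧸ Subgroup.center T, x * y = y * x :=
    quot_comm_of_comm_mem (Subgroup.center T) h.comm_mem_center
  have hZne : Subgroup.center T ≠ ⊤ := by
    intro e
    apply hna
    intro a b
    have : b ∈ Subgroup.center T := by rw [e]; exact Subgroup.mem_top b
    exact Subgroup.mem_center_iff.1 this a
  obtain ⟨F, hK, hinv⟩ := h.quot (Subgroup.center T) le_rfl hZα hZβ hab hZne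
  rcases hK.abelian_dichotomy hab with h4 | ⟨-, hexp⟩
  · exact absurd (comm_of_quot h.fpf h.pgroup (Subgroup.center T) le_rfl hZβ hab h4) hna
  have hsqZ : ∀ x : T, x * x ∈ Subgroup.center T := by
    intro x
    have := hexp (QuotientGroup.mk x)
    rw [← QuotientGroup.mk_mul, QuotientGroup.eq_one_iff] at this
    exact this
  have hcV : ∀ x y : T, ⁅x, y⁆ ∈ V := by
    intro x y
    have hc := h.comm_mem_center x y
    have e : ⁅x * x, y⁆ = ⁅x, y⁆ * ⁅x, y⁆ := c2_mul_left h.comm_mem_center x x y
    have e1 : ⁅x * x, y⁆ = 1 := by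
      rw [commutatorElement_def]
      have := Subgroup.mem_center_iff.1 (hsqZ x) y
      rw [← this]
      group
    have hcc : ⁅x, y⁆ * ⁅x, y⁆ = 1 := by rw [← e, e1]
    rw [← h.fix_iff, hinv _ hc]
    exact inv_eq_of_mul_eq_one_left hcc
  haveI : V.Normal := h.V_normal
  have hab₁ : ∀ x y : T ⧸ V, x * y = y * x := quot_comm_of_comm_mem V hcV
  have hVne : V ≠ ⊤ := by
    intro e
    apply hna
    intro a b
    have : b ∈ V := by rw [e]; exact Subgroup.mem_top b
    exact Subgroup.mem_center_iff.1 (h.V_le this) a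
  obtain ⟨F₁, hK₁, -⟩ := h.quot V h.V_le h.map_α_V h.map_β_V hab₁ hVne
  rcases hK₁.abelian_dichotomy hab₁ with h4 | ⟨h16, -⟩
  · exact absurd (comm_of_quot h.fpf h.pgroup V h.V_le h.map_β_V hab₁ h4) hna
  · rw [Subgroup.card_eq_card_quotient_mul_card_subgroup V, h16, h.V_card]

end KHyp

end Cfsg.Agent.Lib.Helper5.K4
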