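import Mathlib
import Cfsg.Agent.Lib.Helper5.K4.Step3
import Cfsg.Agent.Lib.Helper7.T64H
import Cfsg.Agent.Lib.Helper5.R2.H64E

/-!
S2933, Step 4 (author: helper5): a non-abelian group with `KHyp` is the Heisenberg group over `F₄`
or satisfies `H64`.
-/

set_option autoImplicit false

namespace Cfsg.Agent.Lib.Helper5.K4

open Cfsg.Agent.Lib.Helper7.T64 Cfsg.Agent.Lib.Helper5.Heis3
open scoped commutatorElement

namespace KHyp

variable {T : Type*} [Group T] {V : Subgroup T} {α β : MulAut T}

theorem heis_or_h64 (h : KHyp T V α β) (hna : ¬ ∀ a b : T, a * b = b * a) :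
    Nonempty (T ≃* Heis F4) ∨ R2.H64 T β := by
  haveI := h.fin
  have hcard := h.card_of_nonabelian hna
  have h64 : Hyp64 T β := ⟨h.fin, hcard, h.fpf, hna⟩
  by_cases hinv : ∃ a b : T, a * a = 1 ∧ b * b = 1 ∧ ⁅b, a⁆ ≠ 1
  · obtain ⟨a, b, ha, hb, hab⟩ := hinv
    exact Or.inl (h64.nonempty_heis ha hb hab)
  right
  push Not at hinv
  have hcomm_inv : ∀ a b : T, a * a = 1 → b * b = 1 → a * b = b * a := by
    intro a b ha hb
    have := hinv b a hb ha
    rw [commutatorElement_def] at this
    calc a * b = (a * b * a⁻¹ * b⁻¹) * (b * a) := by group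
      _ = b * a := by rw [this, one_mul]
  have hZV : Subgroup.center T = V :=
    (Subgroup.eq_of_le_of_card_ge h.V_le (by rw [h64.card_center, h.V_card])).symm
  have hsqV : ∀ x : T, x * x ∈ V := fun x => hZV ▸ h64.sq_mem_center x
  have hkey : ∀ x : T, x * x = 1 → x ∈ V := by
    by_contra hcon
    push Not at hcon
    obtain ⟨a, ha, haV⟩ := hcon
    -- the subgroup of involutions
    let J : Subgroup T :=
      { carrier := {x | x * x = 1}
        one_mem' := mul_one 1
        mul_mem' := by
          intro x y hx hy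
          have hx' : x * x = 1 := hx
          have hy' : y * y = 1 := hy
          show x * y * (x * y) = 1
          calc x * y * (x * y) = x * (y * x) * y := by group
            _ = x * (x * y) * y := by rw [hcomm_inv y x hy' hx']
            _ = (x * x) * (y * y) := by group
            _ = 1 := by rw [hx', hy', mul_one]
        inv_mem' := by
          intro x hx
          have hx' : x * x = 1 := hx
          show x⁻¹ * x⁻¹ = 1
          rw [← mul_inv_rev, hx', inv_one] }
    have hJmem : ∀ x, x ∈ J ↔ x * x = 1 := fun x => Iff.rfl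
    -- L₁
    let L : Subgroup T :=
      { carrier := {x | x⁻¹ * α x ∈ V}
        one_mem' := by
          show (1 : T)⁻¹ * α 1 ∈ V
          rw [map_one, inv_one, one_mul]
          exact V.one_mem
        mul_mem' := by
          intro x y hx hy
          have hx' : x⁻¹ * α x ∈ V := hx
          have hy' : y⁻¹ * α y ∈ V := hy
          show (x * y)⁻¹ * α (x * y) ∈ V
          have hc := Subgroup.mem_center_iff.1 (h.V_le hx') y⁻¹
          have e : (x * y)⁻¹ * α (x * y) = (x⁻¹ * α x) * (y⁻¹ * α y) := by
            calc (x * y)⁻¹ * α (x * y) = y⁻¹ * (x⁻¹ * α x) * α y := by rw [map_mul]; group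
              _ = (x⁻¹ * α x) * y⁻¹ * α y := by rw [hc]
              _ = (x⁻¹ * α x) * (y⁻¹ * α y) := by group
          rw [e]
          exact V.mul_mem hx' hy'
        inv_mem' := by
          intro x hx
          have hx' : x⁻¹ * α x ∈ V := hx
          show x⁻¹⁻¹ * α x⁻¹ ∈ V
          have hc := Subgroup.mem_center_iff.1 (h.V_le hx') x
          have hxc : x * α x = α x * x := by
            have e0 : x⁻¹ * α x * x = α x := by rw [← hc]; group
            calc x * α x = x * (x⁻¹ * α x * x) := by rw [e0]
              _ = α x * x := by group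
          have e : x⁻¹⁻¹ * α x⁻¹ = (x⁻¹ * α x)⁻¹ := by
            rw [map_inv, inv_inv, mul_inv_rev, inv_inv]
            calc x * (α x)⁻¹ = (α x)⁻¹ * (α x * x) * (α x)⁻¹ := by group
              _ = (α x)⁻¹ * (x * α x) * (α x)⁻¹ := by rw [hxc]
              _ = (α x)⁻¹ * x := by group
          rw [e]
          exact V.inv_mem hx' }
    have hLmem : ∀ x, x ∈ L ↔ x⁻¹ * α x ∈ V := fun x => Iff.rfl
    let θ : L →* T :=
      { toFun := fun x => x.1⁻¹ * α x.1
        map_one' := by simp
        map_mul' := fun x y => by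
          have hc := Subgroup.mem_center_iff.1 (h.V_le ((hLmem x.1).1 x.2)) y.1⁻¹
          show (x.1 * y.1)⁻¹ * α (x.1 * y.1) = x.1⁻¹ * α x.1 * (y.1⁻¹ * α y.1)
          calc (x.1 * y.1)⁻¹ * α (x.1 * y.1) = y.1⁻¹ * (x.1⁻¹ * α x.1) * α y.1 := by
                rw [map_mul]; group
            _ = (x.1⁻¹ * α x.1) * y.1⁻¹ * α y.1 := by rw [hc]
            _ = x.1⁻¹ * α x.1 * (y.1⁻¹ * α y.1) := by group }
    have hθ : ∀ x : L, θ x = x.1⁻¹ * α x.1 := fun x => rfl
    have hVL : V ≤ L := by
      intro v hv
      rw [hLmem, h.α_V hv, inv_mul_cancel]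
      exact V.one_mem
    have hker : θ.ker = V.subgroupOf L := by
      ext x
      rw [MonoidHom.mem_ker, Subgroup.mem_subgroupOf, hθ, ← h.fix_iff]
      constructor
      · intro e
        have := congrArg (fun t => x.1 * t) e
        simpa using this
      · intro e
        rw [e, inv_mul_cancel]
    have hcardker : Nat.card θ.ker = 4 := by
      rw [hker, Nat.card_congr (Subgroup.subgroupOfEquivOfLe hVL).toEquiv, h.V_card]
    have hrange : θ.range ≤ V := by
      rintro _ ⟨x, rfl⟩
      exact (hLmem x.1).1 x.2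
    have hcardL : Nat.card L ≤ 16 := by
      rw [card_eq_ker_mul_range θ, hcardker]
      have := Subgroup.card_le_of_le hrange
      rw [h.V_card] at this
      omega
    -- J ≤ L
    have hJL : J ≤ L := by
      intro x hx
      have hx' : x * x = 1 := hx
      have hαx : α x * α x = 1 := by rw [← map_mul, hx', map_one]
      have hxinv : x⁻¹ = x := inv_eq_of_mul_eq_one_left hx'
      rw [hLmem, hxinv, ← h.fix_iff, map_mul, h.α_sq]
      exact hcomm_inv (α x) x hαx hx'
    -- |J| ≥ 16
    have hVJ : V ≤ J := fun v hv => h.V_sq v hv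
    have hJβ : ∀ n ∈ J, β n ∈ J := by
      intro n hn
      have hn' : n * n = 1 := hn
      show β n * β n = 1
      rw [← map_mul, hn', map_one]
    have hJmod := h.fpf.card_modEq J hJβ
    have hJdvd : Nat.card J ∣ 64 := by
      rw [← hcard]
      exact Subgroup.card_subgroup_dvd_card J
    have hJgt : 4 < Nat.card J := by
      by_contra hle
      have : J = V := (Subgroup.eq_of_le_of_card_ge hVJ (by rw [h.V_card]; omega)).symm
      apply haV
      rw [← this]
      exact ha
    have hJ16 : 16 ≤ Nat.card J := by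
      rcases dvd_sixty_four_modEq hJdvd hJmod with e | e | e | e <;> omega
    have hJeqL : J = L := Subgroup.eq_of_le_of_card_ge hJL (by omega)
    -- θ y ∈ L for all y
    have hall : ∀ y : T, y * y = 1 := by
      intro y
      have hαθ : α (y⁻¹ * α y) = (y⁻¹ * α y)⁻¹ := by
        rw [map_mul, map_inv, h.α_sq]
        group
      have h1 : y⁻¹ * α y ∈ L := by
        rw [hLmem, hαθ, ← mul_inv_rev]
        exact V.inv_mem (hsqV _)
      rw [← hJeqL] at h1
      have h2 : (y⁻¹ * α y) * (y⁻¹ * α y) = 1 := h1
      have h3 : (y⁻¹ * α y)⁻¹ = y⁻¹ * α y := inv_eq_of_mul_eq_one_left h2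
      have h4 : y⁻¹ * α y ∈ V := by
        rw [← h.fix_iff, hαθ, h3]
      have h5 : y ∈ L := (hLmem y).2 h4
      rw [← hJeqL] at h5
      exact h5
    have hJtop : J = ⊤ := by
      ext y
      simp only [Subgroup.mem_top, iff_true]
      exact hall y
    have : Nat.card J = 64 := by rw [hJtop, Subgroup.card_top, hcard]
    rw [hJeqL] at this
    omega
  refine ⟨hcard, h64.card_center, h64.sq_mem_center, ?_, ?_, fun z _ e => h.fpf.fp z e,
    ⟨1, by rw [pow_one]; exact h.β_pow⟩⟩
  · intro x y
    have := h64.comm_mem_center x⁻¹ y⁻¹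
    rw [commutatorElement_def, inv_inv, inv_inv] at this
    exact this
  · intro x hx
    rw [hZV]
    exact hkey x hx

end KHyp

end Cfsg.Agent.Lib.Helper5.K4
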