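import Mathlib
import Cfsg.Agent.Lib.Helper5.K4.Step4
import Cfsg.Agent.Lib.Helper5.Heis3Sylow

/-!
S2933 (author: helper5): the abstract theorem — a group with `KHyp` is `E16`, homocyclic of rank 2,
the Sylow 2-subgroup of `PSL₃(4)` or of `PSU₃(4)`.
-/

set_option autoImplicit false

namespace Cfsg.Agent.Lib.Helper5.K4

open Cfsg.Agent.Lib.Helper7.T64 Cfsg.Agent.Lib.Helper5.Heis3

namespace KHyp

variable {T : Type*} [Group T] {V : Subgroup T} {α β : MulAut T}

theorem main (h : KHyp T V α β) :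
    (Nat.card T = 16 ∧ ∀ x : T, x * x = 1) ∨
    (∃ n : ℕ, 1 ≤ n ∧
      Nonempty (T ≃* Multiplicative (ZMod (2 ^ n)) × Multiplicative (ZMod (2 ^ n)))) ∨
    (∃ (F : Type) (_ : Field F) (_ : Fintype F), Fintype.card F = 4 ∧
      ∀ P : Sylow 2 (Matrix.ProjectiveSpecialLinearGroup (Fin 3) F),
        Nonempty (T ≃* ↥(P : Subgroup (Matrix.ProjectiveSpecialLinearGroup (Fin 3) F)))) ∨
    (∃ (F : Type) (_ : Field F) (_ : Fintype F), Fintype.card F = 16 ∧
      ∀ P : Sylow 2 (Cfsg.PSU 3 F 4), Nonempty (T ≃* ↥(P : Subgroup (Cfsg.PSU 3 F 4)))) := by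
  classical
  haveI := h.fin
  haveI : Fact (Nat.Prime 2) := ⟨Nat.prime_two⟩
  by_cases hab : ∀ a b : T, a * b = b * a
  · rcases h.abelian_dichotomy hab with h4 | h16
    · right; left
      letI : CommGroup T := { (inferInstance : Group T) with mul_comm := hab }
      obtain ⟨n, hn, ⟨e⟩⟩ := R2.abelian_case (B := T) h.pgroup h4 β (fun x _ hx => h.fpf.fp x hx)
      exact ⟨n, hn, ⟨e.trans (MulEquiv.prodMultiplicative _ _)⟩⟩
    · exact Or.inl h16
  · right; right
    rcases h.heis_or_h64 hab with ⟨⟨e⟩⟩ | h64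
    · left
      obtain ⟨F, iF, iFt, hF, S, ⟨e'⟩⟩ := exists_field_sylow_iso_of_card F4 F4.card_eq
      refine ⟨F, iF, iFt, hF, fun P => ?_⟩
      exact ⟨(e.trans e').trans (Sylow.equiv S P)⟩
    · right
      have hcard : Nat.card (GaloisField 2 4) = 16 := by
        rw [GaloisField.card 2 4 (by norm_num)]
        norm_num
      haveI : Finite (GaloisField 2 4) := Nat.finite_of_card_ne_zero (by rw [hcard]; norm_num)
      letI : Fintype (GaloisField 2 4) := Fintype.ofFinite _
      refine ⟨GaloisField 2 4, inferInstance, inferInstance, ?_, fun P => ?_⟩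
      · rw [Fintype.card_eq_nat_card, hcard]
      · exact h64.sylow_iso (by rw [Fintype.card_eq_nat_card, hcard]) P

end KHyp

end Cfsg.Agent.Lib.Helper5.K4
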